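import Groth.Agent.H56.Split

/-!
Finite parts through a prescribed finite set of quasi-finite points of a fibre, after an
elementary étale neighbourhood.
-/

open CategoryTheory AlgebraicGeometry Limits TopologicalSpace

universe u

namespace Groth.Agent.Lib.GrpdFin9

variable {X Y S S' : Scheme.{u}}

/-- `V` is a closed-open part of the base change, finite over `S'`, whose fibre over `p'` consists of
the points over `E`. -/
structure IsFinitePart (f : X ⟶ S) (g : S' ⟶ S) (p' : S') (E : Set X)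
    (V : (pullback f g).Opens) : Prop where
  isClosed : IsClosed (V : Set ↥(pullback f g))
  isFinite : IsFinite (V.ι ≫ pullback.snd f g)
  fibre : ∀ w : ↥(pullback f g), pullback.snd f g w = p' → (w ∈ V ↔ pullback.fst f g w ∈ E)

theorem quasiFiniteAt_iff_exists_isolated (f : X ⟶ S) [LocallyOfFiniteType f] (x : X) :
    f.QuasiFiniteAt x ↔ ∃ V : X.Opens, x ∈ V ∧ ∀ y ∈ V, f y = f x → y = x := by
  rw [Scheme.Hom.quasiFiniteAt_iff_isOpen_singleton_asFiber, ← (f.fiberHomeo (f x)).isOpen_image]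
  simp only [Set.image_singleton, Scheme.Hom.asFiber, Homeomorph.apply_symm_apply]
  rw [isOpen_induced_iff]
  constructor
  · rintro ⟨t, ht, e⟩
    have hx : x ∈ t := (Set.ext_iff.1 e ⟨x, rfl⟩).2 rfl
    exact ⟨⟨t, ht⟩, hx, fun y hy h => congrArg Subtype.val ((Set.ext_iff.1 e ⟨y, h⟩).1 hy)⟩
  · rintro ⟨V, hxV, h⟩
    refine ⟨V, V.2, Set.ext fun y => ⟨fun hy => Subtype.ext (h y.1 hy y.2), ?_⟩⟩
    intro hy
    rw [Set.mem_singleton_iff] at hy
    subst hy
    exact hxV

theorem quasiFiniteAt_of_finite_fibre (f : X ⟶ Y) [LocallyOfFiniteType f] (x : X)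
    (h : (⇑f ⁻¹' {f x}).Finite) : f.QuasiFiniteAt x := by
  have : Finite (f.fiber (f x)) := (f.fiberHomeo (f x)).finite_iff.mpr h
  exact Scheme.Hom.quasiFiniteAt_iff_isOpen_singleton_asFiber.mpr (isOpen_discrete _)

theorem quasiFiniteAt_comp (f : X ⟶ Y) (g : Y ⟶ S) (x : X) (hf : f.QuasiFiniteAt x)
    (hg : g.QuasiFiniteAt (f x)) : (f ≫ g).QuasiFiniteAt x := by
  rw [Scheme.Hom.QuasiFiniteAt, Scheme.Hom.stalkMap_comp]
  exact RingHom.QuasiFinite.comp hf hg

/-- If `f` has finite fibre over `f x`-values, the base change has finite fibre there. -/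
theorem finite_fibre_snd (f : X ⟶ S) [LocallyOfFiniteType f] (g : Y ⟶ S) (y : Y)
    (h : (⇑f ⁻¹' {g y}).Finite) : (⇑(pullback.snd f g) ⁻¹' {y}).Finite := by
  have key : ∀ x ∈ ⇑f ⁻¹' {g y},
      {w : ↥(pullback f g) | pullback.fst f g w = x ∧ pullback.snd f g w = y}.Finite := by
    intro x hx
    have hq : f.QuasiFiniteAt x := quasiFiniteAt_of_finite_fibre f x (by
      rw [Set.mem_singleton_iff.1 (Set.mem_preimage.1 hx)]; exact h)
    exact H56.Split.finite_points (Scheme.Pullback.Triplet.mk' x y hx)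
      (H46.QFin.finite_residueFieldMap f x hq.isClopen_singleton_asFiber.isClosed)
  refine (h.biUnion key).subset fun w hw => ?_
  refine Set.mem_biUnion (x := pullback.fst f g w) ?_ ⟨rfl, hw⟩
  show f (pullback.fst f g w) = g y
  rw [← Scheme.Hom.comp_apply, pullback.condition, Scheme.Hom.comp_apply, hw]

theorem isClosed_of_isFinite (f : X ⟶ Y) [IsSeparated f] (V : X.Opens)
    [IsFinite (V.ι ≫ f)] : IsClosed (V : Set X) := by
  have : IsProper V.ι := .of_comp V.ι f
  rw [← Scheme.Opens.range_ι V]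
  exact V.ι.isClosedMap.isClosed_range

theorem isFinite_of_le {V W : X.Opens} (f : X ⟶ Y) (h : V ≤ W) (hV : IsClosed (V : Set X))
    (hW : IsFinite (W.ι ≫ f)) : IsFinite (V.ι ≫ f) := by
  have := H56.Split.isClosedImmersion_homOfLE h hV
  rw [← X.homOfLE_ι h, Category.assoc]
  infer_instance

theorem IsFinitePart.exists_one (f : X ⟶ S) [LocallyOfFiniteType f] [IsSeparated f] (p : S)
    (E : Set X) (hE : E.Finite) (hp : ∀ x ∈ E, f x = p) (hq : ∀ x ∈ E, f.QuasiFiniteAt x) :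
    ∃ (S' : Scheme.{u}) (g : S' ⟶ S) (p' : S'), Hens2.IsEtaleNbhd g p' p ∧
      ∃ V : (pullback f g).Opens, IsFinitePart f g p' E V := by
  obtain ⟨n, e, he⟩ := hE.fin_embedding
  have hmem : ∀ i, e i ∈ E := fun i => he.le ⟨i, rfl⟩
  obtain ⟨S', g, p', hg, V, v, hV⟩ := Groth.Agent.S1354.result f p (fun i => e i)
    (fun i => hp _ (hmem i)) (fun i => hq _ (hmem i))
  have hfin : ∀ i, IsFinite ((V i).ι ≫ pullback.snd f g) := fun i => (hV i).2.1
  have hcl : ∀ i, IsClopen (V i : Set ↥(pullback f g)) := fun i =>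
    have := hfin i
    ⟨isClosed_of_isFinite (pullback.snd f g) (V i), (V i).2⟩
  refine ⟨S', g, p', hg, ⨆ i, V i, ?_, H56.Split.isFinite_iSup_clopen _ V hcl hfin, ?_⟩
  · rw [Opens.coe_iSup]
    exact isClosed_iUnion_of_finite fun i => (hcl i).isClosed
  · intro w hw
    rw [Opens.mem_iSup]
    constructor
    · rintro ⟨i, hi⟩
      rw [(hV i).2.2.2.1 w hi hw, (hV i).2.2.2.2.1]
      exact hmem i
    · intro hwE
      obtain ⟨i, hi⟩ := he.ge hwE
      refine ⟨i, ?_⟩
      have : w = v i :=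
        (H56.EtaleNbhd.fst_eq_imp_eq_and_residue f g p' hg.residue_bijective).1 w (v i) hw
          (hV i).2.2.1 (by rw [(hV i).2.2.2.2.1]; exact hi.symm)
      rw [this]
      exact (hV i).1

/-- The comparison map for a refinement of the base. -/
noncomputable def refineMap (f : X ⟶ S) (g : S' ⟶ S) {S'' : Scheme.{u}} (h : S'' ⟶ S') :
    pullback f (h ≫ g) ⟶ pullback f g :=
  pullback.lift (pullback.fst _ _) (pullback.snd _ _ ≫ h)
    (by rw [pullback.condition, Category.assoc])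

@[reassoc (attr := simp)]
theorem refineMap_fst (f : X ⟶ S) (g : S' ⟶ S) {S'' : Scheme.{u}} (h : S'' ⟶ S') :
    refineMap f g h ≫ pullback.fst f g = pullback.fst f (h ≫ g) := pullback.lift_fst _ _ _

@[reassoc (attr := simp)]
theorem refineMap_snd (f : X ⟶ S) (g : S' ⟶ S) {S'' : Scheme.{u}} (h : S'' ⟶ S') :
    refineMap f g h ≫ pullback.snd f g = pullback.snd f (h ≫ g) ≫ h := pullback.lift_snd _ _ _

theorem IsFinitePart.refine {f : X ⟶ S} {g : S' ⟶ S} {p' : S'} {E : Set X}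
    {V : (pullback f g).Opens} (hV : IsFinitePart f g p' E V)
    {S'' : Scheme.{u}} (h : S'' ⟶ S') (p'' : S'') (hp : h p'' = p') :
    IsFinitePart f (h ≫ g) p'' E (refineMap f g h ⁻¹ᵁ V) := by
  have hpb : IsPullback (refineMap f g h) (pullback.snd f (h ≫ g)) (pullback.snd f g) h := by
    refine IsPullback.of_right ?_ (refineMap_snd f g h) (IsPullback.of_hasPullback f g)
    rw [refineMap_fst]
    exact IsPullback.of_hasPullback f (h ≫ g)
  refine ⟨hV.isClosed.preimage (refineMap f g h).continuous,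
    MorphismProperty.of_isPullback ((isPullback_morphismRestrict _ V).paste_vert hpb) hV.isFinite,
    fun w hw => ?_⟩
  show refineMap f g h w ∈ V ↔ _
  rw [hV.fibre (refineMap f g h w) (by
    rw [← Scheme.Hom.comp_apply, refineMap_snd, Scheme.Hom.comp_apply, hw, hp]),
    ← Scheme.Hom.comp_apply, refineMap_fst]

theorem IsFinitePart.exists_pair (f : X ⟶ S) (f' : Y ⟶ S) [LocallyOfFiniteType f]
    [LocallyOfFiniteType f'] [IsSeparated f] [IsSeparated f'] (p : S) (E : Set X) (F : Set Y)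
    (hE : E.Finite) (hF : F.Finite) (hpE : ∀ x ∈ E, f x = p) (hpF : ∀ y ∈ F, f' y = p)
    (hqE : ∀ x ∈ E, f.QuasiFiniteAt x) (hqF : ∀ y ∈ F, f'.QuasiFiniteAt y) :
    ∃ (S' : Scheme.{u}) (g : S' ⟶ S) (p' : S'), Hens2.IsEtaleNbhd g p' p ∧
      (∃ V : (pullback f g).Opens, IsFinitePart f g p' E V) ∧
      ∃ W : (pullback f' g).Opens, IsFinitePart f' g p' F W := by
  obtain ⟨S₁, g₁, p₁, h₁, V, hV⟩ := exists_one f p E hE hpE hqE
  obtain ⟨S₂, g₂, p₂, h₂, W, hW⟩ := exists_one f' p F hF hpF hqF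
  obtain ⟨S', g, p', a, b, hg, ha, hb, hpa, hpb⟩ :=
    H56.EtaleNbhd.exists_common_refinement g₁ g₂ p₁ p₂ h₁ h₂
  refine ⟨S', g, p', hg, ?_, ?_⟩
  · subst ha
    exact ⟨_, hV.refine a p' hpa⟩
  · subst hb
    exact ⟨_, hW.refine b p' hpb⟩

theorem isEtaleNbhd_restrict {g : S' ⟶ S} {p' : S'} {p : S} (hg : Hens2.IsEtaleNbhd g p' p)
    (O : S'.Opens) (hO : p' ∈ O) :
    Hens2.IsEtaleNbhd (O.ι ≫ g) (⟨p', hO⟩ : O) p := by
  have := hg.etale
  refine ⟨inferInstance, hg.base_eq, ?_⟩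
  rw [Scheme.residueFieldMap_comp]
  show Function.Bijective (O.ι.residueFieldMap ⟨p', hO⟩ ∘ g.residueFieldMap p')
  refine Function.Bijective.comp ?_ hg.residue_bijective
  exact H56.EtaleNbhd.residueFieldMap_bijective_of_surjective _ _
    (H56.EtaleNbhd.residueFieldMap_surjective_of_isPreimmersion O.ι _)

end Groth.Agent.Lib.GrpdFin9
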