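import Groth.Prelude.Def_Grpd
import Groth.Agent.Lib.GrpdFin9.Parts

/-!
Groupoid schemes with finite orbit through a point: the finite part after an étale neighbourhood,
and its fullness when `j` is universally closed.
-/

open CategoryTheory AlgebraicGeometry Limits TopologicalSpace

universe u

namespace Groth.Agent.Lib.GrpdFin9

variable {S : Scheme.{u}} (G : Grpd.GroupoidScheme S)

/-- The orbit of `u`. -/
def orbit (u : G.U) : Set G.U := ⇑G.t '' (⇑G.s ⁻¹' {u})

theorem mem_orbit_self (u : G.U) : u ∈ orbit G u :=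
  ⟨G.e u, by show G.s (G.e u) = u; rw [← Scheme.Hom.comp_apply, G.e_s]; rfl,
    by rw [← Scheme.Hom.comp_apply, G.e_t]; rfl⟩

theorem lift_fst_snd :
    pullback.lift (pullback.fst G.s G.t) (pullback.snd G.s G.t) pullback.condition =
      𝟙 (pullback G.s G.t) := by
  apply pullback.hom_ext <;> simp

theorem c_s : G.c ≫ G.s = pullback.snd G.s G.t ≫ G.s := by
  have h := G.comp_s (pullback.fst G.s G.t) (pullback.snd G.s G.t) pullback.condition
  rwa [lift_fst_snd, Category.id_comp] at h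

theorem c_t : G.c ≫ G.t = pullback.fst G.s G.t ≫ G.t := by
  have h := G.comp_t (pullback.fst G.s G.t) (pullback.snd G.s G.t) pullback.condition
  rwa [lift_fst_snd, Category.id_comp] at h

theorem t_mem_orbit {u : G.U} {r : G.R} (h : G.s r ∈ orbit G u) : G.t r ∈ orbit G u := by
  obtain ⟨r₀, hr₀, e⟩ := h
  obtain ⟨z, hz₁, hz₂⟩ := Scheme.Pullback.exists_preimage_pullback (f := G.s) (g := G.t) r r₀ e.symm
  refine ⟨G.c z, ?_, ?_⟩
  · show G.s (G.c z) = u
    rw [← Scheme.Hom.comp_apply, c_s, Scheme.Hom.comp_apply, hz₂]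
    exact hr₀
  · rw [← Scheme.Hom.comp_apply, c_t, Scheme.Hom.comp_apply, hz₁]

theorem s_mem_orbit {u : G.U} {r : G.R} (h : G.t r ∈ orbit G u) : G.s r ∈ orbit G u := by
  have h₁ : G.s (G.i r) = G.t r := by rw [← Scheme.Hom.comp_apply, G.i_s]
  have h₂ : G.t (G.i r) = G.s r := by rw [← Scheme.Hom.comp_apply, G.i_t]
  exact h₂ ▸ t_mem_orbit G (h₁.symm ▸ h)

/-- `(α, β) ↦ (α ∘ β, β)` from composable pairs to pairs with the same source. -/
noncomputable def shear : pullback G.s G.t ⟶ pullback G.s G.s :=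
  pullback.lift G.c (pullback.snd G.s G.t) (c_s G)

/-- `(γ, β) ↦ (γ ∘ β⁻¹, β)`. -/
noncomputable def unshear : pullback G.s G.s ⟶ pullback G.s G.t :=
  pullback.lift
    (pullback.lift (pullback.fst G.s G.s) (pullback.snd G.s G.s ≫ G.i)
      (by rw [Category.assoc, G.i_t, pullback.condition]) ≫ G.c)
    (pullback.snd G.s G.s)
    (by rw [G.comp_s, Category.assoc, G.i_s])

theorem shear_unshear : shear G ≫ unshear G = 𝟙 (pullback G.s G.t) := by
  have e1 : shear G ≫ pullback.fst G.s G.s = G.c := pullback.lift_fst _ _ _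
  have e2 : shear G ≫ pullback.snd G.s G.s = pullback.snd G.s G.t := pullback.lift_snd _ _ _
  apply pullback.hom_ext
  · rw [Category.assoc, unshear, pullback.lift_fst, Category.id_comp, ← Category.assoc]
    have h₁ : pullback.fst G.s G.t ≫ G.s = pullback.snd G.s G.t ≫ G.t := pullback.condition
    have h₂ : pullback.snd G.s G.t ≫ G.s = (pullback.snd G.s G.t ≫ G.i) ≫ G.t := by
      rw [Category.assoc, G.i_t]
    have hl : shear G ≫ pullback.lift (pullback.fst G.s G.s) (pullback.snd G.s G.s ≫ G.i)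
        (by rw [Category.assoc, G.i_t, pullback.condition]) =
        pullback.lift (pullback.lift (pullback.fst G.s G.t) (pullback.snd G.s G.t) h₁ ≫ G.c)
          (pullback.snd G.s G.t ≫ G.i) ((G.comp_s _ _ h₁).trans h₂) := by
      apply pullback.hom_ext
      · rw [Category.assoc, pullback.lift_fst, e1, pullback.lift_fst, lift_fst_snd,
          Category.id_comp]
      · rw [Category.assoc, pullback.lift_snd, ← Category.assoc, e2, pullback.lift_snd]
    rw [hl, G.assoc _ _ _ h₁ h₂]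
    have hβ : pullback.lift (pullback.snd G.s G.t) (pullback.snd G.s G.t ≫ G.i) h₂ ≫ G.c =
        pullback.fst G.s G.t ≫ G.s ≫ G.e :=
      (G.comp_i _).trans (by rw [← Category.assoc, ← pullback.condition, Category.assoc])
    refine Eq.trans ?_ (G.comp_e (pullback.fst G.s G.t))
    congr 1
    apply pullback.hom_ext
    · rw [pullback.lift_fst, pullback.lift_fst]
    · rw [pullback.lift_snd, pullback.lift_snd]
      exact hβ
  · rw [Category.assoc, unshear, pullback.lift_snd, Category.id_comp]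
    exact e2

theorem finite_fibre_s_of_mem_orbit [Flat G.s] [LocallyOfFinitePresentation G.s] {u : G.U}
    (hfin : (⇑G.s ⁻¹' {u}).Finite) {x : G.U} (hx : x ∈ orbit G u) : (⇑G.s ⁻¹' {x}).Finite := by
  obtain ⟨r, hr, rfl⟩ := hx
  have hA : (⇑(pullback.snd G.s G.s) ⁻¹' {r}).Finite := by
    apply finite_fibre_snd G.s G.s r
    rw [show G.s r = u from hr]
    exact hfin
  have hinj : Function.Injective (⇑(shear G)) := by
    intro a b hab
    have := congrArg (⇑(unshear G)) hab
    rwa [← Scheme.Hom.comp_apply, ← Scheme.Hom.comp_apply, shear_unshear] at this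
  refine ((hA.preimage hinj.injOn).image (⇑(pullback.fst G.s G.t))).subset fun α hα => ?_
  obtain ⟨z, hz₁, hz₂⟩ := Scheme.Pullback.exists_preimage_pullback (f := G.s) (g := G.t) α r
    (Set.mem_singleton_iff.1 hα)
  refine ⟨z, ?_, hz₁⟩
  show pullback.snd G.s G.s (shear G z) = r
  rw [← Scheme.Hom.comp_apply, shear, pullback.lift_snd, hz₂]

theorem quasiFiniteAt_t {r : G.R} [LocallyOfFiniteType G.pU] [Flat G.t]
    [LocallyOfFinitePresentation G.t] [LocallyOfFiniteType G.pR] (hr : G.pR.QuasiFiniteAt r) :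
    G.pU.QuasiFiniteAt (G.t r) := by
  obtain ⟨O, hrO, hO⟩ := (quasiFiniteAt_iff_exists_isolated G.pR r).1 hr
  refine (quasiFiniteAt_iff_exists_isolated G.pU _).2
    ⟨⟨⇑G.t '' O, G.t.isOpenMap _ O.2⟩, ⟨r, hrO, rfl⟩, ?_⟩
  rintro _ ⟨o, ho, rfl⟩ h
  rw [← Scheme.Hom.comp_apply, ← Scheme.Hom.comp_apply, G.t_over] at h
  rw [hO o ho h]

variable {S' : Scheme.{u}} (g : S' ⟶ S)

/-- The base change of `s`. -/
noncomputable abbrev sMap : pullback G.pR g ⟶ pullback G.pU g :=
  pullback.map G.pR g G.pU g G.s (𝟙 S') (𝟙 S) ((Category.comp_id _).trans G.s_over.symm)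
    ((Category.comp_id _).trans (Category.id_comp _).symm)

/-- The base change of `t`. -/
noncomputable abbrev tMap : pullback G.pR g ⟶ pullback G.pU g :=
  pullback.map G.pR g G.pU g G.t (𝟙 S') (𝟙 S) ((Category.comp_id _).trans G.t_over.symm)
    ((Category.comp_id _).trans (Category.id_comp _).symm)

theorem sMap_fst : sMap G g ≫ pullback.fst G.pU g = pullback.fst G.pR g ≫ G.s :=
  pullback.lift_fst _ _ _

theorem sMap_snd : sMap G g ≫ pullback.snd G.pU g = pullback.snd G.pR g :=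
  (pullback.lift_snd _ _ _).trans (Category.comp_id _)

theorem tMap_fst : tMap G g ≫ pullback.fst G.pU g = pullback.fst G.pR g ≫ G.t :=
  pullback.lift_fst _ _ _

theorem tMap_snd : tMap G g ≫ pullback.snd G.pU g = pullback.snd G.pR g :=
  (pullback.lift_snd _ _ _).trans (Category.comp_id _)

/-- The data: finite parts of `U` and `R` at the orbit of `u`, compatible with source and target. -/
structure IsGroupoidPart (p' : S') (u : G.U) (U' : (pullback G.pU g).Opens)
    (R' : (pullback G.pR g).Opens) : Prop where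
  partU : IsFinitePart G.pU g p' (orbit G u) U'
  partR : IsFinitePart G.pR g p' (⇑G.s ⁻¹' orbit G u) R'
  le_s : R' ≤ sMap G g ⁻¹ᵁ U'
  le_t : R' ≤ tMap G g ⁻¹ᵁ U'

theorem exists_groupoidPart [LocallyOfFiniteType G.pU] [IsSeparated G.pU] [IsSeparated G.pR]
    [Flat G.s] [LocallyOfFinitePresentation G.s] [Flat G.t] [LocallyOfFinitePresentation G.t]
    (p : S) (u : G.U) (hu : G.pU u = p) (hqf : ∃ V : G.U.Opens, u ∈ V ∧ ∀ x ∈ V, G.pU x = p → x = u)
    (hfin : (⇑G.s ⁻¹' {u}).Finite) :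
    ∃ (S' : Scheme.{u}) (g : S' ⟶ S) (p' : S'), Hens2.IsEtaleNbhd g p' p ∧
      ∃ U' R', IsGroupoidPart G g p' u U' R' := by
  have : LocallyOfFiniteType G.pR := by rw [← G.s_over]; infer_instance
  have hqu : G.pU.QuasiFiniteAt u := (quasiFiniteAt_iff_exists_isolated G.pU u).2 (by
    obtain ⟨V, hV, h⟩ := hqf
    exact ⟨V, hV, fun y hy e => h y hy (e.trans hu)⟩)
  have hpR : ∀ r, G.pR r = G.pU (G.s r) := fun r => by rw [← Scheme.Hom.comp_apply, G.s_over]
  have hpt : ∀ r, G.pR r = G.pU (G.t r) := fun r => by rw [← Scheme.Hom.comp_apply, G.t_over]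
  have hqr : ∀ r ∈ ⇑G.s ⁻¹' {u}, G.pR.QuasiFiniteAt r := fun r hr => by
    have e : G.s r = u := hr
    rw [← G.s_over]
    exact quasiFiniteAt_comp G.s G.pU r
      (quasiFiniteAt_of_finite_fibre G.s r (by rw [e]; exact hfin)) (by rw [e]; exact hqu)
  have hpE : ∀ x ∈ orbit G u, G.pU x = p := by
    rintro _ ⟨r, hr, rfl⟩
    rw [← hpt, hpR, show G.s r = u from hr, hu]
  have hqE : ∀ x ∈ orbit G u, G.pU.QuasiFiniteAt x := by
    rintro _ ⟨r, hr, rfl⟩
    exact quasiFiniteAt_t G (hqr r hr)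
  have hE : (orbit G u).Finite := hfin.image _
  have hF : (⇑G.s ⁻¹' orbit G u).Finite :=
    hE.preimage' fun x hx => finite_fibre_s_of_mem_orbit G hfin hx
  have hpF : ∀ r ∈ ⇑G.s ⁻¹' orbit G u, G.pR r = p := fun r hr => (hpR r).trans (hpE _ hr)
  have hqF : ∀ r ∈ ⇑G.s ⁻¹' orbit G u, G.pR.QuasiFiniteAt r := fun r hr => by
    rw [← G.s_over]
    exact quasiFiniteAt_comp G.s G.pU r
      (quasiFiniteAt_of_finite_fibre G.s r (finite_fibre_s_of_mem_orbit G hfin hr)) (hqE _ hr)
  obtain ⟨S', g, p', hg, ⟨U', hU⟩, R₀, hR⟩ :=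
    IsFinitePart.exists_pair G.pU G.pR p (orbit G u) (⇑G.s ⁻¹' orbit G u) hE hF hpE hpF hqE hqF
  refine ⟨S', g, p', hg, U', R₀ ⊓ sMap G g ⁻¹ᵁ U' ⊓ tMap G g ⁻¹ᵁ U', hU, ?_,
    inf_le_left.trans inf_le_right, inf_le_right⟩
  have hcl : IsClosed ((R₀ ⊓ sMap G g ⁻¹ᵁ U' ⊓ tMap G g ⁻¹ᵁ U' : (pullback G.pR g).Opens) :
      Set ↥(pullback G.pR g)) :=
    (hR.isClosed.inter (hU.isClosed.preimage (sMap G g).continuous)).inter
      (hU.isClosed.preimage (tMap G g).continuous)
  refine ⟨hcl, isFinite_of_le _ (inf_le_left.trans inf_le_left) hcl hR.isFinite, fun w hw => ?_⟩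
  refine ⟨fun h => (hR.fibre w hw).1 h.1.1, fun h => ⟨⟨(hR.fibre w hw).2 h, ?_⟩, ?_⟩⟩
  · show sMap G g w ∈ U'
    rw [hU.fibre _ (by rw [← Scheme.Hom.comp_apply, sMap_snd, hw]), ← Scheme.Hom.comp_apply,
      sMap_fst, Scheme.Hom.comp_apply]
    exact h
  · show tMap G g w ∈ U'
    rw [hU.fibre _ (by rw [← Scheme.Hom.comp_apply, tMap_snd, hw]), ← Scheme.Hom.comp_apply,
      tMap_fst, Scheme.Hom.comp_apply]
    exact t_mem_orbit G h

variable {G g} in
theorem IsGroupoidPart.refine {p' : S'} {u : G.U} {U' : (pullback G.pU g).Opens}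
    {R' : (pullback G.pR g).Opens} (h : IsGroupoidPart G g p' u U' R')
    {S'' : Scheme.{u}} (k : S'' ⟶ S') (p'' : S'') (hp : k p'' = p') :
    IsGroupoidPart G (k ≫ g) p'' u (refineMap G.pU g k ⁻¹ᵁ U') (refineMap G.pR g k ⁻¹ᵁ R') := by
  refine ⟨h.partU.refine k p'' hp, h.partR.refine k p'' hp, fun w hw => ?_, fun w hw => ?_⟩
  · have e : sMap G (k ≫ g) ≫ refineMap G.pU g k = refineMap G.pR g k ≫ sMap G g := by
      apply pullback.hom_ext <;> simp only [sMap, refineMap, pullback.map, Category.assoc, pullback.lift_fst, pullback.lift_snd, pullback.lift_fst_assoc, pullback.lift_snd_assoc, Category.comp_id, Category.id_comp]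
    show refineMap G.pU g k (sMap G (k ≫ g) w) ∈ U'
    rw [← Scheme.Hom.comp_apply, e, Scheme.Hom.comp_apply]
    exact h.le_s hw
  · have e : tMap G (k ≫ g) ≫ refineMap G.pU g k = refineMap G.pR g k ≫ tMap G g := by
      apply pullback.hom_ext <;> simp only [tMap, refineMap, pullback.map, Category.assoc, pullback.lift_fst, pullback.lift_snd, pullback.lift_fst_assoc, pullback.lift_snd_assoc, Category.comp_id, Category.id_comp]
    show refineMap G.pU g k (tMap G (k ≫ g) w) ∈ U'
    rw [← Scheme.Hom.comp_apply, e, Scheme.Hom.comp_apply]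
    exact h.le_t hw

variable {G g} in
/-- The conclusions about the fibre over `p'`. -/
theorem IsGroupoidPart.fibres {p : S} {p' : S'} {u : G.U} {U' : (pullback G.pU g).Opens}
    {R' : (pullback G.pR g).Opens} (h : IsGroupoidPart G g p' u U' R') (hu : G.pU u = p)
    (hg : Hens2.IsEtaleNbhd g p' p) :
    (∃ u' : ↥(pullback G.pU g), u' ∈ U' ∧ pullback.fst G.pU g u' = u ∧
      pullback.snd G.pU g u' = p') ∧
    (∀ u' : ↥(pullback G.pU g), u' ∈ U' → pullback.fst G.pU g u' = u →
      pullback.snd G.pU g u' = p' →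
      {x : ↥(pullback G.pU g) | x ∈ U' ∧ pullback.snd G.pU g x = p'} =
        ⇑(tMap G g) '' (⇑(sMap G g) ⁻¹' {u'})) ∧
    {r : ↥(pullback G.pR g) | r ∈ R' ∧ pullback.snd G.pR g r = p'} =
      ⇑(sMap G g) ⁻¹' {x | x ∈ U' ∧ pullback.snd G.pU g x = p'} := by
  have hinj := (H56.EtaleNbhd.fst_eq_imp_eq_and_residue G.pU g p' hg.residue_bijective).1
  have hs : ∀ r, pullback.fst G.pU g (sMap G g r) = G.s (pullback.fst G.pR g r) := fun r => by
    rw [← Scheme.Hom.comp_apply, sMap_fst, Scheme.Hom.comp_apply]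
  have ht : ∀ r, pullback.fst G.pU g (tMap G g r) = G.t (pullback.fst G.pR g r) := fun r => by
    rw [← Scheme.Hom.comp_apply, tMap_fst, Scheme.Hom.comp_apply]
  have hs₂ : ∀ r, pullback.snd G.pU g (sMap G g r) = pullback.snd G.pR g r := fun r => by
    rw [← Scheme.Hom.comp_apply, sMap_snd]
  have ht₂ : ∀ r, pullback.snd G.pU g (tMap G g r) = pullback.snd G.pR g r := fun r => by
    rw [← Scheme.Hom.comp_apply, tMap_snd]
  refine ⟨?_, fun u' _ hu'₁ hu'₂ => ?_, ?_⟩
  · obtain ⟨u', h₁, h₂⟩ := Scheme.Pullback.exists_preimage_pullback (f := G.pU) (g := g) u p'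
      (hu.trans hg.base_eq.symm)
    exact ⟨u', (h.partU.fibre u' h₂).2 (h₁ ▸ mem_orbit_self G u), h₁, h₂⟩
  · ext x
    constructor
    · rintro ⟨hxU, hx⟩
      obtain ⟨r₀, hr₀, e⟩ := (h.partU.fibre x hx).1 hxU
      have hr₀' : G.s r₀ = u := hr₀
      obtain ⟨r, h₁, h₂⟩ := Scheme.Pullback.exists_preimage_pullback (f := G.pR) (g := g) r₀ p'
        (by rw [← G.s_over, Scheme.Hom.comp_apply, hr₀', hu, hg.base_eq])
      refine ⟨r, hinj _ _ ((hs₂ r).trans h₂) hu'₂ ?_, hinj _ _ ((ht₂ r).trans h₂) hx ?_⟩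
      · rw [hs, h₁, hr₀', hu'₁]
      · rw [ht, h₁, e]
    · rintro ⟨r, hr, rfl⟩
      have hr' : sMap G g r = u' := hr
      have h₂ : pullback.snd G.pR g r = p' := by rw [← hs₂, hr', hu'₂]
      refine ⟨(h.partU.fibre _ ((ht₂ r).trans h₂)).2 ?_, (ht₂ r).trans h₂⟩
      rw [ht]
      exact t_mem_orbit G (by rw [← hs, hr', hu'₁]; exact mem_orbit_self G u)
  · ext r
    constructor
    · rintro ⟨hr, h₂⟩
      refine ⟨(h.partU.fibre _ ((hs₂ r).trans h₂)).2 ?_, (hs₂ r).trans h₂⟩
      rw [hs]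
      exact (h.partR.fibre r h₂).1 hr
    · rintro ⟨hr, h₂⟩
      have h₂' : pullback.snd G.pR g r = p' := (hs₂ r).symm.trans h₂
      refine ⟨(h.partR.fibre r h₂').2 ?_, h₂'⟩
      show G.s _ ∈ orbit G u
      rw [← hs]
      exact (h.partU.fibre _ h₂).1 hr

variable {G g} in
/-- If `j` is universally closed, shrinking the base makes `R'` the full restriction. -/
theorem IsGroupoidPart.exists_full [UniversallyClosed G.j] {p : S} {p' : S'} {u : G.U}
    {U' : (pullback G.pU g).Opens} {R' : (pullback G.pR g).Opens}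
    (h : IsGroupoidPart G g p' u U' R') (hg : Hens2.IsEtaleNbhd g p' p) :
    ∃ (S'' : Scheme.{u}) (g'' : S'' ⟶ S) (p'' : S''), Hens2.IsEtaleNbhd g'' p'' p ∧
      ∃ U'' R'', IsGroupoidPart G g'' p'' u U'' R'' ∧
        R'' = sMap G g'' ⁻¹ᵁ U'' ⊓ tMap G g'' ⁻¹ᵁ U'' := by
  let R₂ := sMap G g ⁻¹ᵁ U' ⊓ tMap G g ⁻¹ᵁ U'
  let q := pullback.fst G.pU G.pU ≫ G.pU
  have hjq : G.j ≫ q = G.pR := by
    simp only [q, Grpd.GroupoidScheme.j, pullback.map, Category.assoc, pullback.lift_fst, pullback.lift_snd, pullback.lift_fst_assoc, pullback.lift_snd_assoc, Category.comp_id, Category.id_comp, G.t_over]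
  let J : pullback G.pR g ⟶ pullback q g :=
    pullback.lift (pullback.fst _ _ ≫ G.j) (pullback.snd _ _)
      (by rw [Category.assoc, hjq, pullback.condition])
  have hJ : IsPullback (pullback.fst G.pR g) J G.j (pullback.fst q g) := by
    refine IsPullback.of_bot ?_ (pullback.lift_fst _ _ _).symm (IsPullback.of_hasPullback q g)
    rw [hjq, show J ≫ pullback.snd q g = pullback.snd G.pR g from pullback.lift_snd _ _ _]
    exact IsPullback.of_hasPullback G.pR g
  have hJuc : UniversallyClosed J := MorphismProperty.of_isPullback hJ inferInstance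
  have hJ₂ : J ≫ pullback.snd q g = pullback.snd G.pR g := pullback.lift_snd _ _ _
  let a : pullback q g ⟶ pullback G.pU g :=
    pullback.map q g G.pU g (pullback.fst G.pU G.pU) (𝟙 S') (𝟙 S) (by simp [q]) (by simp)
  let b : pullback q g ⟶ pullback G.pU g :=
    pullback.map q g G.pU g (pullback.snd G.pU G.pU) (𝟙 S') (𝟙 S)
      (by simp [q, pullback.condition]) (by simp)
  have hJa : J ≫ a = tMap G g := by
    apply pullback.hom_ext <;> simp only [J, a, tMap, Grpd.GroupoidScheme.j, pullback.map, Category.assoc, pullback.lift_fst, pullback.lift_snd, pullback.lift_fst_assoc, pullback.lift_snd_assoc, Category.comp_id, Category.id_comp]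
  have hJb : J ≫ b = sMap G g := by
    apply pullback.hom_ext <;> simp only [J, b, sMap, Grpd.GroupoidScheme.j, pullback.map, Category.assoc, pullback.lift_fst, pullback.lift_snd, pullback.lift_fst_assoc, pullback.lift_snd_assoc, Category.comp_id, Category.id_comp]
  have := h.partU.isFinite
  let π := U'.ι ≫ pullback.snd G.pU g
  have hw₁ : (pullback.fst π π ≫ U'.ι ≫ pullback.fst G.pU g) ≫ G.pU =
      (pullback.fst π π ≫ π) ≫ g := by
    simp only [π, Category.assoc, pullback.condition (f := G.pU) (g := g)]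
  have hw₂ : (pullback.snd π π ≫ U'.ι ≫ pullback.fst G.pU g) ≫ G.pU =
      (pullback.fst π π ≫ π) ≫ g := by
    rw [pullback.condition (f := π) (g := π)]
    simp only [π, Category.assoc, pullback.condition (f := G.pU) (g := g)]
  let m : pullback π π ⟶ pullback q g :=
    pullback.lift
      (pullback.lift (pullback.fst π π ≫ U'.ι ≫ pullback.fst G.pU g)
        (pullback.snd π π ≫ U'.ι ≫ pullback.fst G.pU g) (hw₁.trans hw₂.symm))
      (pullback.fst π π ≫ π)
      (by simp only [q, pullback.map, Category.assoc, pullback.lift_fst, pullback.lift_snd, pullback.lift_fst_assoc, pullback.lift_snd_assoc, Category.comp_id, Category.id_comp]; simpa only [Category.assoc] using hw₁)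
  have hm₂ : m ≫ pullback.snd q g = pullback.fst π π ≫ π := pullback.lift_snd _ _ _
  let Z : (pullback q g).Opens := a ⁻¹ᵁ U' ⊓ b ⁻¹ᵁ U'
  have hrange : ∀ z : ↥(pullback q g), z ∈ Z → ∃ y, m y = z := by
    intro z hz
    have h₁ : Set.range (Z.ι ≫ a) ⊆ Set.range U'.ι := by
      rintro _ ⟨⟨y, hy⟩, rfl⟩
      rw [Scheme.Opens.range_ι]
      exact hy.1
    have h₂ : Set.range (Z.ι ≫ b) ⊆ Set.range U'.ι := by
      rintro _ ⟨⟨y, hy⟩, rfl⟩
      rw [Scheme.Opens.range_ι]
      exact hy.2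
    let l₁ := IsOpenImmersion.lift U'.ι (Z.ι ≫ a) h₁
    let l₂ := IsOpenImmersion.lift U'.ι (Z.ι ≫ b) h₂
    have e₁ : l₁ ≫ U'.ι = Z.ι ≫ a := IsOpenImmersion.lift_fac _ _ _
    have e₂ : l₂ ≫ U'.ι = Z.ι ≫ b := IsOpenImmersion.lift_fac _ _ _
    let l : Z.toScheme ⟶ pullback π π := pullback.lift l₁ l₂
      (by simp only [π, reassoc_of% e₁, reassoc_of% e₂, a, b, pullback.map, Category.assoc, pullback.lift_fst, pullback.lift_snd, pullback.lift_fst_assoc, pullback.lift_snd_assoc, Category.comp_id, Category.id_comp])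
    have hl : l ≫ m = Z.ι := by
      apply pullback.hom_ext
      · apply pullback.hom_ext
        · simp only [l, m, reassoc_of% e₁, a, pullback.map, Category.assoc, pullback.lift_fst, pullback.lift_snd, pullback.lift_fst_assoc, pullback.lift_snd_assoc, Category.comp_id, Category.id_comp]
        · simp only [l, m, reassoc_of% e₂, b, pullback.map, Category.assoc, pullback.lift_fst, pullback.lift_snd, pullback.lift_fst_assoc, pullback.lift_snd_assoc, Category.comp_id, Category.id_comp]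
      · simp only [l, m, π, reassoc_of% e₁, a, pullback.map, Category.assoc, pullback.lift_fst, pullback.lift_snd, pullback.lift_fst_assoc, pullback.lift_snd_assoc, Category.comp_id, Category.id_comp]
    exact ⟨l ⟨z, hz⟩, by rw [← Scheme.Hom.comp_apply, hl]; rfl⟩
  -- the part of `R₂` outside `R'`
  let D : Set ↥(pullback G.pR g) := (R₂ : Set ↥(pullback G.pR g)) \ R'
  have hD : IsClosed D :=
    ((h.partU.isClosed.preimage (sMap G g).continuous).inter
      (h.partU.isClosed.preimage (tMap G g).continuous)).sdiff R'.2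
  have hC : IsClosed (⇑J '' D) := J.isClosedMap _ hD
  have himg : IsClosed (⇑(pullback.snd G.pR g) '' D) := by
    have e : ⇑(pullback.snd G.pR g) '' D =
        ⇑(pullback.fst π π ≫ π) '' (⇑m ⁻¹' (⇑J '' D)) := by
      ext y
      constructor
      · rintro ⟨r, hr, rfl⟩
        obtain ⟨w, hw⟩ := hrange (J r) ⟨by
          show a (J r) ∈ U'
          rw [← Scheme.Hom.comp_apply, hJa]; exact hr.1.2, by
          show b (J r) ∈ U'
          rw [← Scheme.Hom.comp_apply, hJb]; exact hr.1.1⟩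
        refine ⟨w, ⟨r, hr, hw.symm⟩, ?_⟩
        rw [← hm₂, Scheme.Hom.comp_apply, hw, ← Scheme.Hom.comp_apply, hJ₂]
      · rintro ⟨w, ⟨r, hr, e⟩, rfl⟩
        exact ⟨r, hr, by rw [← hJ₂, Scheme.Hom.comp_apply, e, ← Scheme.Hom.comp_apply, hm₂]⟩
    rw [e]
    have : IsFinite π := h.partU.isFinite
    have : IsFinite (pullback.fst π π ≫ π) := inferInstance
    exact Scheme.Hom.isClosedMap _ _ (hC.preimage m.continuous)
  have hp' : p' ∉ ⇑(pullback.snd G.pR g) '' D := by
    rintro ⟨r, ⟨hr₂, hr⟩, hrp⟩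
    refine hr ((h.partR.fibre r hrp).2 ?_)
    have := (h.partU.fibre _ (by rw [← Scheme.Hom.comp_apply, sMap_snd, hrp])).1 hr₂.1
    rwa [← Scheme.Hom.comp_apply, sMap_fst] at this
  let O : S'.Opens := ⟨_, himg.isOpen_compl⟩
  refine ⟨O, O.ι ≫ g, ⟨p', hp'⟩, isEtaleNbhd_restrict hg O hp', _, _,
    h.refine O.ι ⟨p', hp'⟩ rfl, ?_⟩
  have es : sMap G (O.ι ≫ g) ≫ refineMap G.pU g O.ι = refineMap G.pR g O.ι ≫ sMap G g := by
    apply pullback.hom_ext <;> simp only [sMap, refineMap, pullback.map, Category.assoc, pullback.lift_fst, pullback.lift_snd, pullback.lift_fst_assoc, pullback.lift_snd_assoc, Category.comp_id, Category.id_comp]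
  have et : tMap G (O.ι ≫ g) ≫ refineMap G.pU g O.ι = refineMap G.pR g O.ι ≫ tMap G g := by
    apply pullback.hom_ext <;> simp only [tMap, refineMap, pullback.map, Category.assoc, pullback.lift_fst, pullback.lift_snd, pullback.lift_fst_assoc, pullback.lift_snd_assoc, Category.comp_id, Category.id_comp]
  rw [← Scheme.Hom.comp_preimage, ← Scheme.Hom.comp_preimage, es, et]
  refine le_antisymm (fun w hw => ⟨h.le_s hw, h.le_t hw⟩) fun w hw => ?_
  by_contra hne
  have hmem : (pullback.snd G.pR (O.ι ≫ g) w).1 ∈ ⇑(pullback.snd G.pR g) '' D := by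
    refine ⟨refineMap G.pR g O.ι w, ⟨hw, hne⟩, ?_⟩
    rw [← Scheme.Hom.comp_apply, refineMap_snd, Scheme.Hom.comp_apply]
    rfl
  exact (pullback.snd G.pR (O.ι ≫ g) w).2 hmem

end Groth.Agent.Lib.GrpdFin9
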